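import Cfsg.Agent.Lib.LargeExtra.SixTwo.Forms

/-!
A simple group of order 360 acting on an orthogonal space of dimension eight over the field with two
elements and commuting with an element of order three: that element fixes no vector or a six
dimensional space whose complement the simple group centralises.
-/

set_option autoImplicit false
set_option linter.unusedSectionVars false

namespace Cfsg.Agent.LargeExtra.SixTwo

variable {A V : Type*} [Group A] [Finite A] [AddCommGroup V] [Finite V] [DistribMulAction A V]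

/-- The vectors fixed by an endomorphism. -/
def fixD (D : V →+ V) : AddSubgroup V where
  carrier := {x | D x = x}
  add_mem' {x y} hx hy := by simp only [Set.mem_setOf_eq] at *; rw [map_add, hx, hy]
  zero_mem' := map_zero D
  neg_mem' {x} hx := by simp only [Set.mem_setOf_eq] at *; rw [map_neg, hx]

/-- The complement of the fixed vectors of an element of order three. -/
def movD (D : V →+ V) : AddSubgroup V where
  carrier := {x | x + D x + D (D x) = 0}
  add_mem' {x y} hx hy := by
    simp only [Set.mem_setOf_eq, map_add] at *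
    rw [show x + y + (D x + D y) + (D (D x) + D (D y)) =
      (x + D x + D (D x)) + (y + D y + D (D y)) by abel, hx, hy, add_zero]
  zero_mem' := by simp
  neg_mem' {x} hx := by
    simp only [Set.mem_setOf_eq, map_neg] at *
    rw [show -x + -D x + -D (D x) = -(x + D x + D (D x)) by abel, hx, neg_zero]

/-- The restriction to a subgroup orthogonal to a complement. -/
def QF.restrict (F : QF V) (W W' : AddSubgroup V) (hspan : ∀ x, ∃ w ∈ W, ∃ w' ∈ W', x = w + w')
    (horth : ∀ w ∈ W, ∀ w' ∈ W', F.b w w' = 0) : QF ↥W where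
  q x := F.q x
  b x y := F.b x y
  polar x y := by simpa using F.polar x y
  add_left x y z := by simpa using F.add_left x y z
  add_right x y z := by simpa using F.add_right x y z
  two x := Subtype.ext (by simpa using F.two (x : V))
  nondeg x hx := by
    obtain ⟨y, hy⟩ := F.nondeg (x : V) (fun h => hx (Subtype.ext h))
    obtain ⟨w, hw, w', hw', rfl⟩ := hspan y
    refine ⟨⟨w, hw⟩, ?_⟩
    rw [F.add_right, horth x x.2 w' hw', add_zero] at hy
    exact hy

section Count

variable {α : Type*} [MulAction A α] [Finite α]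

theorem modEq_fixed {p : ℕ} [Fact p.Prime] {g : A} (hg : orderOf g = p) :
    Nat.card α ≡ Nat.card {x : α // g • x = x} [MOD p] := by
  have hp : IsPGroup p (Subgroup.zpowers g) :=
    IsPGroup.of_card (n := 1) (by rw [Nat.card_zpowers, hg, pow_one])
  have h := hp.card_modEq_card_fixedPoints α
  have e : Nat.card (MulAction.fixedPoints (Subgroup.zpowers g) α) = Nat.card {x : α // g • x = x} := by
    refine Nat.card_congr (Equiv.subtypeEquivRight fun x => ?_)
    constructor
    · intro hx
      exact hx ⟨g, Subgroup.mem_zpowers g⟩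
    · rintro hx ⟨k, hk⟩
      obtain ⟨n, rfl⟩ := hk
      exact MulAction.mem_stabilizer_iff.1
        (zpow_mem (MulAction.mem_stabilizer_iff.2 hx : g ∈ MulAction.stabilizer A x) n)
  rwa [e] at h

end Count

/-- An element fixing a value-preserving set. -/
theorem modEq_fixed_subset {p : ℕ} [Fact p.Prime] {g : A} (hg : orderOf g = p) (P : V → Prop)
    (hP : ∀ (a : A) x, P x → P (a • x)) :
    Nat.card {x // P x} ≡ Nat.card {x // P x ∧ g • x = x} [MOD p] := by
  letI : MulAction A {x // P x} :=
    { smul := fun a x => ⟨a • x.1, hP a x.1 x.2⟩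
      one_smul := fun x => Subtype.ext (one_smul A x.1)
      mul_smul := fun a c x => Subtype.ext (mul_smul a c x.1) }
  refine (modEq_fixed (α := {x // P x}) hg).trans (congrArg (· % p) ?_)
  exact Nat.card_congr
    { toFun := fun x => ⟨x.1.1, x.1.2, congrArg Subtype.val x.2⟩
      invFun := fun x => ⟨⟨x.1, x.2.1⟩, Subtype.ext x.2.2⟩
      left_inv := fun _ => rfl
      right_inv := fun _ => rfl }

/-- The kernel of the action on an invariant set. -/
def actKer (A : Type*) {V : Type*} [Group A] [MulAction A V] (P : V → Prop)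
    (hP : ∀ (a : A) x, P x → P (a • x)) : Subgroup A where
  carrier := {a | ∀ x, P x → a • x = x}
  one_mem' x _ := one_smul A x
  mul_mem' {a c} ha hc x hx := by rw [mul_smul, hc x hx, ha x hx]
  inv_mem' {a} ha x hx := by
    have h := ha _ (hP a⁻¹ x hx)
    rwa [smul_inv_smul, eq_comm] at h

theorem actKer_normal (P : V → Prop) (hP : ∀ (a : A) x, P x → P (a • x)) : (actKer A P hP).Normal where
  conj_mem a ha g x hx := by
    rw [mul_smul, mul_smul, ha _ (hP g⁻¹ x hx), smul_inv_smul]

/-- A nontrivial action of the simple group needs many vectors. -/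
theorem trivial_of_small [IsSimpleGroup A] (P : V → Prop) (hP : ∀ (a : A) x, P x → P (a • x))
    {β : Type*} [Finite β] (f : A → β) (hf : Nat.card β < Nat.card A)
    (hdet : ∀ a c, f a = f c → ∀ x, P x → a • x = c • x) (a : A) (x : V) (hx : P x) : a • x = x := by
  rcases (actKer_normal P hP).eq_bot_or_eq_top with h | h
  · exfalso
    refine absurd (Nat.card_le_card_of_injective f fun c d e => ?_) (by omega)
    have hmem : d⁻¹ * c ∈ actKer A P hP := fun y hy => by
      rw [mul_smul, hdet c d e y hy, inv_smul_smul]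
    rw [h, Subgroup.mem_bot, inv_mul_eq_one] at hmem
    exact hmem.symm
  · exact (h.symm ▸ Subgroup.mem_top a : a ∈ actKer A P hP) x hx

/-- An element fixing at least six vectors of a space of sixteen has order at most two on it. -/
theorem sq_fixes_of_six (W : AddSubgroup V) (hW : Nat.card W = 16) (two : ∀ x : V, x + x = 0)
    (hWA : ∀ (a : A) x, x ∈ W → a • x ∈ W) (g : A)
    (h6 : 6 ≤ Nat.card {x // x ∈ W ∧ g • x = x}) : ∀ x ∈ W, g • g • x = x := by
  classical
  let F : AddSubgroup V :=
    { carrier := {x | x ∈ W ∧ g • x = x}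
      add_mem' := fun {x y} hx hy => ⟨add_mem hx.1 hy.1, by rw [smul_add, hx.2, hy.2]⟩
      zero_mem' := ⟨zero_mem W, smul_zero g⟩
      neg_mem' := fun {x} hx => ⟨neg_mem hx.1, by rw [smul_neg, hx.2]⟩ }
  have hle : F ≤ W := fun x hx => hx.1
  have h6' : 6 ≤ Nat.card F := h6
  have hdvd : Nat.card F ∣ 2 ^ 4 := by
    have := AddSubgroup.card_dvd_of_le hle
    rwa [hW] at this
  obtain ⟨k, hk, hcard⟩ := (Nat.dvd_prime_pow Nat.prime_two).1 hdvd
  have hk3 : 3 ≤ k := by
    by_contra hc
    have : 2 ^ k ≤ 2 ^ 2 := Nat.pow_le_pow_right (by norm_num) (by omega)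
    omega
  intro x hxW
  by_cases hx : g • x = x
  · rw [hx, hx]
  have hidx : (F.addSubgroupOf W).index ≤ 2 := by
    have hmul := (F.addSubgroupOf W).card_mul_index
    rw [Nat.card_congr (AddSubgroup.addSubgroupOfEquivOfLe hle).toEquiv, hW, hcard] at hmul
    have : 2 ^ 3 ≤ 2 ^ k := Nat.pow_le_pow_right (by norm_num) hk3
    nlinarith
  -- two vectors outside the fixed ones differ by a fixed one
  have hdiff : ∀ u ∈ W, ∀ v ∈ W, u ∉ F → v ∉ F → u + v ∈ F := by
    intro u hu v hv huF hvF
    have h2 : (F.addSubgroupOf W).index = 2 := by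
      rcases Nat.lt_or_ge (F.addSubgroupOf W).index 2 with h | h
      · exfalso
        have h0 := AddSubgroup.index_ne_zero_of_finite (H := F.addSubgroupOf W)
        have h1 : F.addSubgroupOf W = ⊤ := AddSubgroup.index_eq_one.1 (by omega)
        exact huF ((AddSubgroup.mem_addSubgroupOf (K := W)).1
          (h1.symm ▸ AddSubgroup.mem_top (⟨u, hu⟩ : W)))
      · omega
    have := (AddSubgroup.add_mem_iff_of_index_two h2 (a := ⟨u, hu⟩) (b := ⟨v, hv⟩)).2
      (iff_of_false (fun h => huF h) (fun h => hvF h))
    exact this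
  have hgx : g • x ∉ F := fun h => hx (MulAction.injective g h.2)
  have h := (hdiff x hxW _ (hWA g x hxW) (fun h => hx h.2) hgx).2
  rw [smul_add] at h
  have h' : g • g • x = g • x + (g • x + g • g • x) := by rw [← add_assoc, two, zero_add]
  rw [h', h, ← add_assoc, add_comm (g • x) x, add_assoc, two, add_zero]

/-- The simple group acts trivially on a four-dimensional nondegenerate space. -/
theorem four_trivial (F : QF V) [IsSimpleGroup A] (hA : Nat.card A = 360)
    (hiso : ∀ (a : A) x, F.q (a • x) = F.q x) (W W' : AddSubgroup V)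
    (hspan : ∀ x, ∃ w ∈ W, ∃ w' ∈ W', x = w + w') (horth : ∀ w ∈ W, ∀ w' ∈ W', F.b w w' = 0)
    (hC16 : Nat.card W = 16) (hWA : ∀ (a : A) x, x ∈ W → a • x ∈ W) :
    ∀ (a : A), ∀ x ∈ W, a • x = x := by
  classical
  have : Fintype W := Fintype.ofFinite _
  have two := F.two
  rcases (actKer_normal (fun x => x ∈ W) hWA).eq_bot_or_eq_top with hbot | htop
  swap
  · exact fun a x hx => (by rw [htop]; exact Subgroup.mem_top a : a ∈ actKer A (fun x => x ∈ W) hWA) x hx
  exfalso
  have hkerC : ∀ g : A, (∀ x ∈ W, g • x = x) → g = 1 := fun g hg =>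
    Subgroup.mem_bot.1 (hbot ▸ (show g ∈ actKer A (fun x => x ∈ W) hWA from hg))
  obtain ⟨f, hf⟩ : ∃ f : A, orderOf f = 5 :=
    haveI : Fact (Nat.Prime 5) := ⟨by norm_num⟩
    exists_prime_orderOf_dvd_card' 5 (by rw [hA]; norm_num)
  haveI : Fact (Nat.Prime 5) := ⟨by norm_num⟩
  have hqpres : ∀ (a : A) x, F.q x = 0 → F.q (a • x) = 0 := fun a x h => by rw [hiso, h]
  let FC := F.restrict W W' hspan horth
  have hsing := FC.card_singular_cases (m := 4) (by rw [← Nat.card_eq_fintype_card]; exact hC16)
  have e0 : Nat.card {x : W // FC.q x = 0} = Nat.card {x // x ∈ W ∧ F.q x = 0} :=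
    Nat.card_congr (Equiv.subtypeSubtypeEquivSubtypeInter (fun x => x ∈ W) (fun x => F.q x = 0))
  rw [e0] at hsing
  have hsplit : ∀ P : V → Prop,
      Nat.card {x // P x} = Nat.card {x // P x ∧ F.q x = 0} + Nat.card {x // P x ∧ F.q x = 1} := by
    intro P
    rw [← Nat.card_sum]
    refine Nat.card_congr ((Equiv.sumCompl fun x : {x // P x} => F.q x.1 = 0).symm.trans (Equiv.sumCongr ?_ ?_))
    · exact Equiv.subtypeSubtypeEquivSubtypeInter P (fun x => F.q x = 0)
    · exact (Equiv.subtypeSubtypeEquivSubtypeInter P (fun x => ¬ F.q x = 0)).trans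
        (Equiv.subtypeEquivRight fun x => and_congr_right fun _ =>
          ⟨(zmod_two (F.q x)).resolve_left, fun h h' => by rw [h] at h'; exact one_ne_zero h'⟩)
  have hCtot := hsplit (fun x => x ∈ W)
  have hCcard : Nat.card {x // x ∈ W} = 16 := hC16
  rw [hCcard] at hCtot
  rcases hsing with hs | hs
  · -- plus type
    have h5s := modEq_fixed_subset hf (fun x => x ∈ W ∧ F.q x = 0)
      (fun a x hx => ⟨hWA a x hx.1, hqpres a x hx.2⟩)
    have h5n := modEq_fixed_subset hf (fun x => x ∈ W ∧ F.q x = 1)
      (fun a x hx => ⟨hWA a x hx.1, by rw [hiso, hx.2]⟩)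
    rw [show Nat.card {x // x ∈ W ∧ F.q x = 0} = 10 by omega] at h5s
    rw [show Nat.card {x // x ∈ W ∧ F.q x = 1} = 6 by omega] at h5n
    have htot := hsplit (fun x => x ∈ W ∧ f • x = x)
    have hs' : Nat.card {x // (x ∈ W ∧ f • x = x) ∧ F.q x = 0} =
        Nat.card {x // (x ∈ W ∧ F.q x = 0) ∧ f • x = x} :=
      Nat.card_congr (Equiv.subtypeEquivRight fun x => and_right_comm)
    have hn' : Nat.card {x // (x ∈ W ∧ f • x = x) ∧ F.q x = 1} =
        Nat.card {x // (x ∈ W ∧ F.q x = 1) ∧ f • x = x} :=
      Nat.card_congr (Equiv.subtypeEquivRight fun x => and_right_comm)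
    have hpos : 0 < Nat.card {x // (x ∈ W ∧ F.q x = 0) ∧ f • x = x} :=
      Nat.card_pos_iff.2 ⟨⟨⟨0, ⟨zero_mem _, F.q_zero⟩, smul_zero f⟩⟩, inferInstance⟩
    unfold Nat.ModEq at h5s h5n
    have hsq := sq_fixes_of_six (W) hC16 two hWA f (by omega)
    have h2 := hkerC (f ^ 2) fun x hx => by rw [pow_two, mul_smul]; exact hsq x hx
    have := orderOf_le_of_pow_eq_one (by norm_num) h2
    omega
  · -- minus type
    haveI : Fact (Nat.Prime 3) := ⟨Nat.prime_three⟩
    obtain ⟨E, hE⟩ := Sylow.exists_subgroup_card_pow_prime (G := A) 3 (n := 2) (by rw [hA]; norm_num)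
    let Z : Type _ := {x // (x ∈ W ∧ F.q x = 0) ∧ x ≠ 0}
    letI : MulAction E Z :=
      { smul := fun a x => ⟨(a : A) • x.1, ⟨hWA _ _ x.2.1.1, hqpres _ _ x.2.1.2⟩, fun h => x.2.2 (by
          rw [← inv_smul_smul (a : A) x.1, h, smul_zero])⟩
        one_smul := fun x => Subtype.ext (one_smul A x.1)
        mul_smul := fun a c x => Subtype.ext (mul_smul (a : A) (c : A) x.1) }
    have hZ1 : Nat.card Z + 1 = Nat.card {x // x ∈ W ∧ F.q x = 0} := by
      rw [← Finite.card_option]
      exact Nat.card_congr
        { toFun := fun o => o.elim ⟨0, zero_mem _, F.q_zero⟩ fun x => ⟨x.1, x.2.1⟩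
          invFun := fun x => if h : x.1 = 0 then none else some ⟨x.1, x.2, h⟩
          left_inv := fun o => by
            cases o with
            | none => exact dif_pos rfl
            | some x => exact dif_neg x.2.2
          right_inv := fun x => by
            by_cases h : x.1 = 0
            · simp only [h, dite_true, Option.elim]
              exact Subtype.ext h.symm
            · simp [h] }
    have hker : ∃ g : E, g ≠ 1 ∧ MulAction.toPermHom E Z g = 1 := by
      by_contra hc
      push Not at hc
      have hinj : Function.Injective (MulAction.toPermHom E Z) :=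
        (injective_iff_map_eq_one _).2 fun g hg => by_contra fun h => hc g h hg
      have hd := Subgroup.card_dvd_of_injective _ hinj
      rw [Nat.card_perm, show Nat.card Z = 5 by omega, hE] at hd
      norm_num at hd
    obtain ⟨g, hg1, hgk⟩ := hker
    have hg9 : (g : A) ^ 9 = 1 := by
      have : g ^ 9 = 1 := by
        have h := pow_card_eq_one' (x := g)
        rwa [hE] at h
      exact_mod_cast congrArg Subtype.val this
    have hfix6 : 6 ≤ Nat.card {x // x ∈ W ∧ (g : A) • x = x} := by
      refine le_trans (le_of_eq (show 6 = Nat.card {x // x ∈ W ∧ F.q x = 0} by omega))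
        (Nat.card_le_card_of_injective (fun x => ⟨x.1, x.2.1, ?_⟩) fun x y h =>
          Subtype.ext (congrArg (fun z : {x // x ∈ W ∧ (g : A) • x = x} => z.1) h))
      by_cases h : x.1 = 0
      · rw [h, smul_zero]
      · exact congrArg Subtype.val (Equiv.ext_iff.1 hgk ⟨x.1, x.2, h⟩)
    have hsq := sq_fixes_of_six (W) hC16 two hWA (g : A) hfix6
    have h2 := hkerC ((g : A) ^ 2) fun x hx => by rw [pow_two, mul_smul]; exact hsq x hx
    refine hg1 (Subtype.ext ?_)
    have : (g : A) = (g : A) ^ 9 * (((g : A) ^ 2) ^ 4)⁻¹ := by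
      rw [← pow_mul, ← pow_sub _ (by norm_num), show 9 - 2 * 4 = 1 from rfl, pow_one]
    rw [this, hg9, h2]
    simp

/-- The alternative for the element of order three. -/
theorem split (F : QF V) (hV : Nat.card V = 256) [IsSimpleGroup A] (hA : Nat.card A = 360)
    [FaithfulSMul A V] (hiso : ∀ (a : A) x, F.q (a • x) = F.q x) (D : V →+ V)
    (hD3 : ∀ x, D (D (D x)) = x) (hDq : ∀ x, F.q (D x) = F.q x) (hDne : ∃ x, D x ≠ x)
    (hcomm : ∀ (a : A) x, a • D x = D (a • x)) :
    (∀ x, D x = x → x = 0) ∨
      (Nat.card (fixD D) = 64 ∧ Nat.card (movD D) = 4 ∧ ∀ (a : A) x, x ∈ movD D → a • x = x) := by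
  classical
  have : Fintype V := Fintype.ofFinite V
  have two := F.two
  have hDb : ∀ x y, F.b (D x) (D y) = F.b x y := fun x y => by
    have h1 := F.polar (D x) (D y)
    rw [← map_add, hDq, hDq, hDq, F.polar] at h1
    exact (add_left_cancel h1).symm
  have hsum : ∀ x, x + D x + D (D x) ∈ fixD D := fun x => by
    show D (x + D x + D (D x)) = x + D x + D (D x)
    rw [map_add, map_add, hD3]; abel
  have hmov : ∀ x, D x + D (D x) ∈ movD D := fun x => by
    show D x + D (D x) + D (D x + D (D x)) + D (D (D x + D (D x))) = 0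
    simp only [map_add, hD3]
    rw [show D x + D (D x) + (D (D x) + x) + (x + D x) =
      (D x + D x) + (D (D x) + D (D x)) + (x + x) by abel, two (D x), two (D (D x)), two x, add_zero,
      add_zero]
  have hspan : ∀ x, ∃ c ∈ fixD D, ∃ w ∈ movD D, x = c + w := fun x =>
    ⟨_, hsum x, _, hmov x, by
      rw [show x + D x + D (D x) + (D x + D (D x)) = x + ((D x + D x) + (D (D x) + D (D x))) by abel,
        two, two, add_zero, add_zero]⟩
  have horth : ∀ c ∈ fixD D, ∀ w ∈ movD D, F.b c w = 0 := by
    intro c hc w hw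
    have h1 : ∀ v, F.b c (D v) = F.b c v := fun v => by
      have := hDb c v
      rwa [show D c = c from hc] at this
    have h2 : F.b c (w + D w + D (D w)) = 0 := by rw [show w + D w + D (D w) = 0 from hw, F.b_zero_right]
    rw [F.add_right, F.add_right, h1, h1, h1, add_self', zero_add] at h2
    exact h2
  have hsymm : ∀ u v, F.b u v = F.b v u := fun u v => by
    have h1 := F.polar u v
    rw [add_comm u v, F.polar v u, add_comm (F.q v) (F.q u)] at h1
    exact (add_left_cancel h1).symm
  have hzero : ∀ x, x ∈ fixD D → x ∈ movD D → x = 0 := fun x hc hw => by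
    have h : x + D x + D (D x) = 0 := hw
    rwa [show D x = x from hc, show D x = x from hc, two, zero_add] at h
  have hprod : Nat.card (fixD D) * Nat.card (movD D) = 256 := by
    rw [← hV, ← Nat.card_prod]
    refine Nat.card_congr (Equiv.ofBijective (fun p : fixD D × movD D => (p.1 : V) + p.2) ⟨?_, ?_⟩)
    · rintro ⟨c, w⟩ ⟨c', w'⟩ h
      have h' : (c : V) + w = c' + w' := h
      have e : (c : V) - c' = w' - w := by rw [sub_eq_sub_iff_add_eq_add, h', add_comm]
      have h0 := hzero _ (sub_mem c.2 c'.2) (e ▸ sub_mem w'.2 w.2)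
      have e1 : c = c' := Subtype.ext (sub_eq_zero.1 h0)
      subst e1
      exact Prod.ext rfl (Subtype.ext (add_left_cancel h'))
    · intro x
      obtain ⟨c, hc, w, hw, rfl⟩ := hspan x
      exact ⟨(⟨c, hc⟩, ⟨w, hw⟩), rfl⟩
  -- `D` has orbits of length three on a set without fixed vectors
  have hthree : ∀ P : V → Prop, (∀ x, P x → P (D x)) → (∀ x, P x → D x ≠ x) →
      3 ∣ Nat.card {x // P x} := by
    intro P hP hne
    let σ : Equiv.Perm {x // P x} :=
      { toFun := fun x => ⟨D x.1, hP _ x.2⟩
        invFun := fun x => ⟨D (D x.1), hP _ (hP _ x.2)⟩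
        left_inv := fun x => Subtype.ext (hD3 x.1)
        right_inv := fun x => Subtype.ext (hD3 x.1) }
    have hσ : σ ^ 3 ^ 1 = 1 := by
      ext x
      exact hD3 x.1
    have h := Equiv.Perm.card_compl_support_modEq (p := 3) hσ
    have h0 : σ.supportᶜ = ∅ := by
      rw [Finset.eq_empty_iff_forall_notMem]
      intro x hx
      rw [Finset.mem_compl, Equiv.Perm.mem_support, not_not] at hx
      exact hne x.1 x.2 (congrArg Subtype.val hx)
    rw [h0, Finset.card_empty] at h
    rw [Nat.card_eq_fintype_card]
    exact Nat.modEq_zero_iff_dvd.1 h.symm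
  have hmodW : 3 ∣ Nat.card {x // x ∈ movD D ∧ x ≠ 0} := by
    refine hthree _ (fun x hx => ⟨?_, fun h => hx.2 ?_⟩) fun x hx h => hx.2 (hzero x h hx.1)
    · show D x + D (D x) + D (D (D x)) = 0
      rw [← map_add, ← map_add, show x + D x + D (D x) = 0 from hx.1, map_zero]
    · rw [← hD3 x, h, map_zero, map_zero]
  have hcardW : Nat.card {x // x ∈ movD D ∧ x ≠ 0} + 1 = Nat.card (movD D) := by
    have h1 : Nat.card {x // x ∈ movD D ∧ x ≠ 0} = ((movD D : Set V) \ {0}).ncard := by
      rw [← Nat.card_coe_set_eq]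
      exact Nat.card_congr (Equiv.subtypeEquivRight fun x => by simp)
    rw [h1, Set.ncard_diff_singleton_add_one (zero_mem (movD D)) (Set.toFinite _)]
    exact Nat.card_coe_set_eq _
  have hCA : ∀ (a : A) x, x ∈ fixD D → a • x ∈ fixD D := fun a x hx => by
    show D (a • x) = a • x
    rw [← hcomm, show D x = x from hx]
  have hWA : ∀ (a : A) x, x ∈ movD D → a • x ∈ movD D := fun a x hx => by
    show a • x + D (a • x) + D (D (a • x)) = 0
    rw [← hcomm, ← hcomm, ← smul_add, ← smul_add, show x + D x + D (D x) = 0 from hx, smul_zero]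
  have hnotboth : (∀ (a : A) x, x ∈ fixD D → a • x = x) → (∀ (a : A) x, x ∈ movD D → a • x = x) → False := by
    intro hc hw
    have hall : ∀ a : A, a = 1 := fun a => FaithfulSMul.eq_of_smul_eq_smul fun x : V => by
      obtain ⟨c, hc', w, hw', rfl⟩ := hspan x
      rw [one_smul, smul_add, hc a c hc', hw a w hw']
    have := Nat.card_eq_one_iff_unique.2 ⟨⟨fun x y => (hall x).trans (hall y).symm⟩, ⟨(1 : A)⟩⟩
    omega
  obtain ⟨k, hk, hkW⟩ := (Nat.dvd_prime_pow Nat.prime_two).1
    (⟨Nat.card (fixD D), by rw [mul_comm]; exact hprod.symm⟩ : Nat.card (movD D) ∣ 2 ^ 8)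
  have : Fintype (movD D) := Fintype.ofFinite _
  have : Fintype (fixD D) := Fintype.ofFinite _
  obtain ⟨f, hf⟩ : ∃ f : A, orderOf f = 5 :=
    haveI : Fact (Nat.Prime 5) := ⟨by norm_num⟩
    exists_prime_orderOf_dvd_card' 5 (by rw [hA]; norm_num)
  haveI : Fact (Nat.Prime 5) := ⟨by norm_num⟩
  have hf5 : f ^ 5 = 1 := hf ▸ pow_orderOf_eq_one f
  have hqpres : ∀ (a : A) x, F.q x = 0 → F.q (a • x) = 0 := fun a x h => by rw [hiso, h]
  interval_cases k
  · -- trivial
    exfalso
    obtain ⟨x, hx⟩ := hDne
    obtain ⟨c, hc, w, hw, rfl⟩ := hspan x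
    have hw0 : w = 0 := by
      by_contra h
      have : 0 < Nat.card {x // x ∈ movD D ∧ x ≠ 0} :=
        Nat.card_pos_iff.2 ⟨⟨⟨w, hw, h⟩⟩, inferInstance⟩
      omega
    rw [hw0, add_zero] at hx
    exact hx hc
  · omega
  · -- a plane
    refine Or.inr ⟨?_, hkW.trans (by norm_num), fun a x hx => ?_⟩
    · rw [hkW] at hprod; norm_num at hprod ⊢; omega
    · refine trivial_of_small (fun x => x ∈ movD D) hWA
        (β := movD D → movD D) (fun a w => ⟨a • (w : V), hWA a _ w.2⟩) ?_ ?_ a x hx
      · rw [Nat.card_fun, hkW, hA]; norm_num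
      · intro a c e y hy
        exact congrArg Subtype.val (congrFun e ⟨y, hy⟩)
  · omega
  · -- two four-dimensional spaces
    exfalso
    have hC16 : Nat.card (fixD D) = 16 :=
      Nat.eq_of_mul_eq_mul_right (by norm_num : 0 < 2 ^ 4) ((congrArg _ hkW.symm).trans (hprod.trans (by norm_num)))
    have hW16 : Nat.card (movD D) = 16 := hkW
    obtain ⟨w₁, hw₁, hw₁0⟩ : ∃ w ∈ movD D, w ≠ 0 := by
      have : 0 < Nat.card {x // x ∈ movD D ∧ x ≠ 0} := by omega
      obtain ⟨⟨w, h1, h2⟩⟩ := (Nat.card_pos_iff.1 this).1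
      exact ⟨w, h1, h2⟩
    let S : AddSubgroup V :=
      { carrier := {x | x = 0 ∨ x = w₁ ∨ x = D w₁ ∨ x = w₁ + D w₁}
        zero_mem' := Or.inl rfl
        add_mem' := by
          rintro x y (rfl | rfl | rfl | rfl) (rfl | rfl | rfl | rfl) <;>
            simp [two, add_left_comm, add_comm, ← add_assoc]
        neg_mem' := fun {x} hx => by rwa [neg_eq_of_add_eq_zero_left (two x)] }
    obtain ⟨w₂, hw₂, hw₂S⟩ : ∃ w ∈ movD D, w ∉ S := by
      by_contra hc
      push Not at hc
      have h4 : Nat.card (movD D) ≤ 4 := by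
        have hsub : (movD D : Set V) ⊆ ↑({0, w₁, D w₁, w₁ + D w₁} : Finset V) := fun x hx => by
          have h' : x = 0 ∨ x = w₁ ∨ x = D w₁ ∨ x = w₁ + D w₁ := hc x hx
          simp only [Finset.coe_insert, Finset.coe_singleton, Set.mem_insert_iff, Set.mem_singleton_iff]
          exact h'
        have h := Set.ncard_le_ncard hsub (Finset.finite_toSet _)
        rw [Set.ncard_coe_finset] at h
        exact (Nat.card_coe_set_eq _).le.trans (h.trans Finset.card_le_four)
      omega
    have hWtriv : ∀ (a : A) x, x ∈ movD D → a • x = x := by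
      intro a x hx
      refine trivial_of_small (fun x => x ∈ movD D) hWA (β := movD D × movD D)
        (fun a => (⟨a • w₁, hWA a _ hw₁⟩, ⟨a • w₂, hWA a _ hw₂⟩)) ?_ ?_ a x hx
      · rw [Nat.card_prod, hW16, hA]; norm_num
      · intro a c e y hy
        have e1 : a • w₁ = c • w₁ := congrArg (fun p : movD D × movD D => (p.1 : V)) e
        have e2 : a • w₂ = c • w₂ := congrArg (fun p : movD D × movD D => (p.2 : V)) e
        let E : AddSubgroup V :=
          { carrier := {v | a • v = c • v}
            add_mem' := fun {u v} hu hv => by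
              simp only [Set.mem_setOf_eq] at *; rw [smul_add, smul_add, hu, hv]
            zero_mem' := by simp
            neg_mem' := fun {u} hu => by simp only [Set.mem_setOf_eq] at *; rw [smul_neg, smul_neg, hu] }
        have hED : ∀ v, v ∈ E → D v ∈ E := fun v hv => by
          show a • D v = c • D v
          rw [hcomm, hcomm, show a • v = c • v from hv]
        have hwD : w₁ + D w₁ = D (D w₁) := by
          have h : w₁ + D w₁ + D (D w₁) = 0 := hw₁
          rw [← add_zero (w₁ + D w₁), ← two (D (D w₁)), ← add_assoc, h, zero_add]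
        have hEW : E.addSubgroupOf (movD D) = ⊤ := by
          have hge : 16 ≤ Nat.card (E.addSubgroupOf (movD D)) := by
            have hdvd := (E.addSubgroupOf (movD D)).card_addSubgroup_dvd_card
            rw [hW16] at hdvd
            obtain ⟨j, -, hj⟩ := (Nat.dvd_prime_pow Nat.prime_two).1 (show _ ∣ 2 ^ 4 by norm_num; exact hdvd)
            by_contra hlt
            have hmem : ∀ v, v ∈ S ∨ (∃ s ∈ S, v = w₂ + s) ∨ v = D w₂ → v ∈ E ∧ v ∈ movD D := by
              have hS : ∀ v, v ∈ S → v ∈ E ∧ v ∈ movD D := by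
                have hD1 : D w₁ ∈ movD D := by
                  show D w₁ + D (D w₁) + D (D (D w₁)) = 0
                  rw [← map_add, ← map_add, show w₁ + D w₁ + D (D w₁) = 0 from hw₁, map_zero]
                rintro v (rfl | rfl | rfl | rfl)
                · exact ⟨zero_mem E, zero_mem _⟩
                · exact ⟨e1, hw₁⟩
                · exact ⟨hED _ e1, hD1⟩
                · exact ⟨add_mem (e1 : w₁ ∈ E) (hED _ e1), add_mem hw₁ hD1⟩
              rintro v (h | ⟨s, hs, rfl⟩ | rfl)
              · exact hS v h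
              · exact ⟨add_mem (e2 : w₂ ∈ E) (hS s hs).1, add_mem hw₂ (hS s hs).2⟩
              · refine ⟨hED _ e2, ?_⟩
                show D w₂ + D (D w₂) + D (D (D w₂)) = 0
                rw [← map_add, ← map_add, show w₂ + D w₂ + D (D w₂) = 0 from hw₂, map_zero]
            have hne : D w₂ ∉ S ∧ ∀ s ∈ S, D w₂ ≠ w₂ + s := by
              have hSD : ∀ s, s ∈ S → D s ∈ S := by
                rintro s (rfl | rfl | rfl | rfl)
                · exact Or.inl (map_zero D)
                · exact Or.inr (Or.inr (Or.inl rfl))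
                · exact Or.inr (Or.inr (Or.inr hwD.symm))
                · refine Or.inr (Or.inl ?_)
                  rw [hwD, hD3]
              refine ⟨fun h => hw₂S (hD3 w₂ ▸ hSD _ (hSD _ h)), fun s hs h => ?_⟩
              have h0 : w₂ + D w₂ + D (D w₂) = 0 := hw₂
              rw [h, map_add, h] at h0
              apply hw₂S
              have hw2 : w₂ + D s = 0 := by
                rw [← h0, show w₂ + (w₂ + s) + (w₂ + s + D s) =
                  (w₂ + w₂) + (s + s) + (w₂ + D s) by abel, two, two, zero_add, zero_add]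
              rw [← add_zero w₂, ← two (D s), ← add_assoc, hw2, zero_add]
              exact hSD _ hs
            have h8 : j ≤ 3 := by
              by_contra hj4
              have : 2 ^ 4 ≤ 2 ^ j := Nat.pow_le_pow_right (by norm_num) (by omega)
              omega
            have hD10 : D w₁ ≠ 0 := fun h => hw₁0 (by rw [← hD3 w₁, h, map_zero, map_zero])
            have hD1ne : D w₁ ≠ w₁ := fun h => hw₁0 (hzero w₁ h hw₁)
            let T : Finset V := insert (D w₂) ({0, w₁, D w₁, w₁ + D w₁} ∪
              ({0, w₁, D w₁, w₁ + D w₁} : Finset V).image (w₂ + ·))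
            have hc4 : ({0, w₁, D w₁, w₁ + D w₁} : Finset V).card = 4 := by
              have h03 : w₁ + D w₁ ≠ 0 := fun h => hD1ne
                (by rw [← add_zero (D w₁), ← two w₁, ← add_assoc, add_comm (D w₁) w₁, h, zero_add])
              simp [Finset.card_insert_of_notMem, hw₁0, hD10, hD1ne.symm, hw₁0.symm, hD10.symm, h03.symm]
            have hT : T.card = 9 := by
              rw [Finset.card_insert_of_notMem, Finset.card_union_of_disjoint, Finset.card_image_of_injective _
                (add_right_injective w₂), hc4]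
              · rw [Finset.disjoint_left]
                intro v hv hv'
                obtain ⟨s, hs, rfl⟩ := Finset.mem_image.1 hv'
                have hvS : w₂ + s ∈ S := by simpa [S] using hv
                have hsS : s ∈ S := by simpa [S] using hs
                have := add_mem hvS hsS
                rw [add_assoc, two, add_zero] at this
                exact hw₂S this
              · rw [Finset.mem_union, Finset.mem_image]
                rintro (h | ⟨s, hs, h⟩)
                · exact hne.1 (show D w₂ ∈ S by simpa [S] using h)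
                · exact hne.2 s (show s ∈ S by simpa [S] using hs) h.symm
            have hTsub : (T : Set V) ⊆ {v | v ∈ E ∧ v ∈ movD D} := by
              intro v hv
              refine hmem v ?_
              simp only [T, Finset.coe_insert, Finset.coe_union, Finset.coe_image, Set.mem_insert_iff,
                Set.mem_union, Set.mem_image] at hv
              rcases hv with rfl | h | ⟨s, hs, rfl⟩
              · exact Or.inr (Or.inr rfl)
              · exact Or.inl (show v ∈ S by simpa [S] using h)
              · exact Or.inr (Or.inl ⟨s, show s ∈ S by simpa [S] using hs, rfl⟩)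
            have hle := Set.ncard_le_ncard hTsub (Set.toFinite _)
            rw [Set.ncard_coe_finset, hT] at hle
            have e3 : ({v | v ∈ E ∧ v ∈ movD D} : Set V).ncard = Nat.card (E.addSubgroupOf (movD D)) := by
              rw [← Nat.card_coe_set_eq]
              exact Nat.card_congr
                { toFun := fun v => ⟨⟨v.1, v.2.2⟩, v.2.1⟩
                  invFun := fun v => ⟨v.1.1, v.2, v.1.2⟩
                  left_inv := fun _ => rfl
                  right_inv := fun _ => rfl }
            have : 2 ^ j ≤ 2 ^ 3 := Nat.pow_le_pow_right (by norm_num) h8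
            omega
          exact AddSubgroup.eq_top_of_le_card _ (by rw [hW16]; exact hge)
        exact (AddSubgroup.mem_addSubgroupOf (K := movD D)).1
          (hEW.symm ▸ AddSubgroup.mem_top (⟨y, hy⟩ : movD D))
    -- the four-dimensional fixed space
    exact hnotboth (four_trivial F hA hiso (fixD D) (movD D) hspan horth hC16 hCA) hWtriv
  · omega
  · -- a six-dimensional moved space
    exfalso
    have hC4 : Nat.card (fixD D) = 4 :=
      Nat.eq_of_mul_eq_mul_right (by norm_num : 0 < 2 ^ 6) ((congrArg _ hkW.symm).trans (hprod.trans (by norm_num)))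
    have hW64 : Nat.card (movD D) = 64 := hkW
    have hWspan : ∀ x, ∃ w ∈ movD D, ∃ c ∈ fixD D, x = w + c := fun x => by
      obtain ⟨c, hc, w, hw, e⟩ := hspan x
      exact ⟨w, hw, c, hc, e.trans (add_comm c w)⟩
    let FW := F.restrict (movD D) (fixD D) hWspan fun w hw c hc => (hsymm w c).trans (horth c hc w hw)
    have hsing := FW.card_singular_cases (m := 8) (by rw [← Nat.card_eq_fintype_card]; exact hW64)
    have e0 : Nat.card {x : movD D // FW.q x = 0} = Nat.card {x // x ∈ movD D ∧ F.q x = 0} :=
      Nat.card_congr (Equiv.subtypeSubtypeEquivSubtypeInter (fun x => x ∈ movD D) (fun x => F.q x = 0))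
    rw [e0] at hsing
    have hWD : ∀ x, x ∈ movD D → D x ∈ movD D := fun x hx => by
      show D x + D (D x) + D (D (D x)) = 0
      rw [← map_add, ← map_add, show x + D x + D (D x) = 0 from hx, map_zero]
    have hsplit : ∀ P : V → Prop,
        Nat.card {x // P x} = Nat.card {x // P x ∧ F.q x = 0} + Nat.card {x // P x ∧ F.q x = 1} := by
      intro P
      rw [← Nat.card_sum]
      refine Nat.card_congr ((Equiv.sumCompl fun x : {x // P x} => F.q x.1 = 0).symm.trans (Equiv.sumCongr ?_ ?_))
      · exact Equiv.subtypeSubtypeEquivSubtypeInter P (fun x => F.q x = 0)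
      · exact (Equiv.subtypeSubtypeEquivSubtypeInter P (fun x => ¬ F.q x = 0)).trans
          (Equiv.subtypeEquivRight fun x => and_congr_right fun _ =>
            ⟨(zmod_two (F.q x)).resolve_left, fun h h' => by rw [h] at h'; exact one_ne_zero h'⟩)
    -- the nonsingular vectors come in orbits of `D`
    have h3n := hthree (fun x => x ∈ movD D ∧ F.q x = 1)
      (fun x hx => ⟨hWD x hx.1, by rw [hDq, hx.2]⟩)
      (fun x hx h => by
        have := hx.2
        rw [hzero x h hx.1, F.q_zero] at this
        exact zero_ne_one this)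
    have hWtot := hsplit (fun x => x ∈ movD D)
    rw [show Nat.card {x // x ∈ movD D} = 64 from hW64] at hWtot
    have hn : Nat.card {x // x ∈ movD D ∧ F.q x = 1} = 36 := by
      rcases hsing with h | h <;> omega
    have h5s := modEq_fixed_subset hf (fun x => x ∈ movD D ∧ F.q x = 0)
      (fun a x hx => ⟨hWA a x hx.1, hqpres a x hx.2⟩)
    have h5n := modEq_fixed_subset hf (fun x => x ∈ movD D ∧ F.q x = 1)
      (fun a x hx => ⟨hWA a x hx.1, by rw [hiso, hx.2]⟩)
    rw [hn] at h5n
    rw [show Nat.card {x // x ∈ movD D ∧ F.q x = 0} = 28 by omega] at h5s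
    let Φ : AddSubgroup V :=
      { carrier := {x | x ∈ movD D ∧ f • x = x}
        add_mem' := fun {x y} hx hy => ⟨add_mem hx.1 hy.1, by rw [smul_add, hx.2, hy.2]⟩
        zero_mem' := ⟨zero_mem _, smul_zero f⟩
        neg_mem' := fun {x} hx => ⟨neg_mem hx.1, by rw [smul_neg, hx.2]⟩ }
    have htot := hsplit (fun x => x ∈ Φ)
    have hs' : Nat.card {x // x ∈ Φ ∧ F.q x = 0} = Nat.card {x // (x ∈ movD D ∧ F.q x = 0) ∧ f • x = x} :=
      Nat.card_congr (Equiv.subtypeEquivRight fun x => and_right_comm)
    have hn' : Nat.card {x // x ∈ Φ ∧ F.q x = 1} = Nat.card {x // (x ∈ movD D ∧ F.q x = 1) ∧ f • x = x} :=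
      Nat.card_congr (Equiv.subtypeEquivRight fun x => and_right_comm)
    have hdvd : Nat.card Φ ∣ 2 ^ 6 := by
      have := AddSubgroup.card_dvd_of_le (show Φ ≤ movD D from fun x hx => hx.1)
      rwa [hW64] at this
    obtain ⟨i, hi, hcard⟩ := (Nat.dvd_prime_pow Nat.prime_two).1 hdvd
    rw [show Nat.card {x // x ∈ Φ} = Nat.card Φ from rfl] at htot
    have hpowv : ∀ i ≤ 6, 2 ^ i % 5 = 4 → i = 2 ∨ i = 6 := by decide
    unfold Nat.ModEq at h5s h5n
    rcases hpowv i hi (by omega) with rfl | rfl
    · -- one orbit of `D`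
      have h4 : Nat.card Φ = 4 := by simpa using hcard
      obtain ⟨⟨n, ⟨hnW, hnq⟩, hnf⟩⟩ := (Nat.card_pos_iff.1
        (show 0 < Nat.card {x // (x ∈ movD D ∧ F.q x = 1) ∧ f • x = x} by omega)).1
      have hn0 : n ≠ 0 := fun h => by
        rw [h, F.q_zero] at hnq; exact zero_ne_one hnq
      have hnΦ : n ∈ Φ := ⟨hnW, hnf⟩
      have hΦD : ∀ x, x ∈ Φ → D x ∈ Φ := fun x hx => ⟨hWD x hx.1, by rw [hcomm, hx.2]⟩
      have hD1 : D n ≠ n := fun h => hn0 (hzero n h hnW)
      have hD2 : D (D n) ≠ D n := fun h => hD1 (by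
        have h2 := congrArg (fun x => D (D x)) h
        simp only [hD3] at h2
        exact h2)
      have hle : Nat.card {x // x ∈ Φ ∧ F.q x = 1} ≥ 3 := by
        have hD20 : D (D n) ≠ n := fun h => hD1 (by
          have h2 := congrArg D h
          rw [hD3] at h2
          exact h2.symm)
        have hsub : (({n, D n, D (D n)} : Finset V) : Set V) ⊆ {x | x ∈ Φ ∧ F.q x = 1} := by
          intro x hx
          simp only [Finset.coe_insert, Finset.coe_singleton, Set.mem_insert_iff, Set.mem_singleton_iff] at hx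
          rcases hx with rfl | rfl | rfl
          · exact ⟨hnΦ, hnq⟩
          · exact ⟨hΦD _ hnΦ, by rw [hDq, hnq]⟩
          · exact ⟨hΦD _ (hΦD _ hnΦ), by rw [hDq, hDq, hnq]⟩
        have h := Set.ncard_le_ncard hsub (Set.toFinite _)
        rw [Set.ncard_coe_finset] at h
        have hc3 : ({n, D n, D (D n)} : Finset V).card = 3 := by
          simp [Finset.card_insert_of_notMem, hD1.symm, hD20.symm, hD2.symm]
        rw [hc3, ← Nat.card_coe_set_eq] at h
        exact h
      omega
    · -- `f` is trivial on the moved space, so the group is trivial on everything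
      have hΦeq : Φ = movD D := AddSubgroup.eq_of_le_of_card_ge (fun x hx => hx.1)
        (by rw [hW64, hcard]; norm_num)
      have hfk : f ∈ actKer A (fun x => x ∈ movD D) hWA := fun x hx => (hΦeq.symm ▸ hx : x ∈ Φ).2
      have htop : actKer A (fun x => x ∈ movD D) hWA = ⊤ := by
        refine (actKer_normal _ hWA).eq_bot_or_eq_top.resolve_left fun h => ?_
        rw [h, Subgroup.mem_bot] at hfk
        rw [hfk, orderOf_one] at hf
        omega
      refine hnotboth (fun a x hx => ?_) fun a x hx => (by rw [htop]; exact Subgroup.mem_top a : a ∈ actKer A (fun x => x ∈ movD D) hWA) x hx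
      refine trivial_of_small (fun x => x ∈ fixD D) hCA (β := fixD D → fixD D)
        (fun a w => ⟨a • (w : V), hCA a _ w.2⟩) ?_ ?_ a x hx
      · rw [Nat.card_fun, hC4, hA]; norm_num
      · intro a c e y hy
        exact congrArg Subtype.val (congrFun e ⟨y, hy⟩)
  · omega
  · -- no fixed vectors
    refine Or.inl fun x hx => ?_
    have h1 : Nat.card (fixD D) = 1 :=
      Nat.eq_of_mul_eq_mul_right (by norm_num : 0 < 2 ^ 8) ((congrArg _ hkW.symm).trans (hprod.trans (by norm_num)))
    have := (Nat.card_eq_one_iff_unique.1 h1).1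
    exact congrArg Subtype.val (Subsingleton.elim (⟨x, hx⟩ : fixD D) 0)

end Cfsg.Agent.LargeExtra.SixTwo
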