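import Mathlib

/-!
Quadratic forms over the field with two elements on finite elementary abelian groups: the numbers
of singular vectors.
-/

set_option autoImplicit false

namespace Cfsg.Agent.LargeExtra.SixTwo

open Finset

/-- A nondegenerate quadratic form over the field with two elements. -/
structure QF (V : Type*) [AddCommGroup V] where
  /-- The quadratic map. -/
  q : V → ZMod 2
  /-- Its polarisation. -/
  b : V → V → ZMod 2
  polar : ∀ x y, q (x + y) = q x + q y + b x y
  add_left : ∀ x y z, b (x + y) z = b x z + b y z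
  add_right : ∀ x y z, b x (y + z) = b x y + b x z
  two : ∀ x : V, x + x = 0
  nondeg : ∀ x, x ≠ 0 → ∃ y, b x y = 1

/-- The sign of a value. -/
def sgn (a : ZMod 2) : ℤ := if a = 0 then 1 else -1

theorem sgn_add : ∀ a c : ZMod 2, sgn (a + c) = sgn a * sgn c := by decide

theorem zmod_two : ∀ a : ZMod 2, a = 0 ∨ a = 1 := by decide

theorem add_self' : ∀ a : ZMod 2, a + a = 0 := by decide

variable {V : Type*} [AddCommGroup V] (F : QF V)

theorem QF.b_zero_left (x : V) : F.b 0 x = 0 := by
  have h := F.add_left 0 0 x
  rw [add_zero] at h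
  exact left_eq_add.1 h

theorem QF.b_zero_right (x : V) : F.b x 0 = 0 := by
  have h := F.add_right x 0 0
  rw [add_zero] at h
  exact left_eq_add.1 h

theorem QF.q_zero : F.q 0 = 0 := by
  have h := F.polar 0 0
  rw [add_zero, F.b_zero_left, add_zero] at h
  exact left_eq_add.1 h

variable [Fintype V]

/-- The sum of the signs of the values. -/
def QF.gauss : ℤ := ∑ x, sgn (F.q x)

theorem QF.sum_sgn_b (x : V) [DecidableEq V] :
    ∑ h, sgn (F.b h x) = if x = 0 then (Fintype.card V : ℤ) else 0 := by
  have hcomm : ∀ u v, F.b u v = F.b v u := fun u v => by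
    have h1 := F.polar u v
    rw [add_comm u v, F.polar v u, add_comm (F.q v) (F.q u)] at h1
    exact (add_left_cancel h1).symm
  split
  · rename_i h
    subst h
    simp [F.b_zero_right, sgn]
  · rename_i hx
    obtain ⟨y, hy⟩ := F.nondeg x hx
    have hsum : ∑ h, sgn (F.b h x) = ∑ h, sgn (F.b (h + y) x) :=
      (Fintype.sum_equiv (Equiv.addRight y) _ _ fun h => rfl).symm
    have hneg : ∑ h, sgn (F.b (h + y) x) = -∑ h, sgn (F.b h x) := by
      rw [← Finset.sum_neg_distrib]
      refine Finset.sum_congr rfl fun h _ => ?_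
      rw [F.add_left, hcomm y x, hy, sgn_add]
      simp [sgn]
    linarith

theorem QF.gauss_sq : F.gauss * F.gauss = Fintype.card V := by
  classical
  calc F.gauss * F.gauss = ∑ x, ∑ h, sgn (F.q x) * sgn (F.q (x + h)) := by
        rw [QF.gauss, Finset.sum_mul]
        refine Finset.sum_congr rfl fun x _ => ?_
        rw [Finset.mul_sum]
        exact (Fintype.sum_equiv (Equiv.addLeft x) _ _ fun h => rfl).symm
    _ = ∑ h, sgn (F.q h) * ∑ x, sgn (F.b x h) := by
        rw [Finset.sum_comm]
        refine Finset.sum_congr rfl fun h _ => ?_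
        rw [Finset.mul_sum]
        refine Finset.sum_congr rfl fun x _ => ?_
        rw [← sgn_add, ← sgn_add, F.polar, show F.q x + (F.q x + F.q h + F.b x h) =
          (F.q x + F.q x) + (F.q h + F.b x h) by ring, add_self', zero_add]
    _ = _ := by
        simp only [F.sum_sgn_b, mul_ite, mul_zero, Finset.sum_ite_eq', Finset.mem_univ, if_true,
          F.q_zero]
        simp [sgn]

theorem QF.card_singular :
    2 * (Nat.card {x // F.q x = 0} : ℤ) = Fintype.card V + F.gauss := by
  classical
  have h : ∀ x, sgn (F.q x) = 2 * (if F.q x = 0 then 1 else 0) - 1 := fun x => by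
    unfold sgn; split <;> norm_num
  rw [QF.gauss, Finset.sum_congr rfl fun x _ => h x, Finset.sum_sub_distrib, ← Finset.mul_sum,
    Finset.sum_boole, Nat.card_eq_fintype_card, Fintype.card_subtype]
  simp

/-- The two possible numbers of singular vectors. -/
theorem QF.card_singular_cases {m : ℕ} (h : Fintype.card V = m ^ 2) :
    2 * Nat.card {x // F.q x = 0} = m ^ 2 + m ∨ 2 * Nat.card {x // F.q x = 0} + m = m ^ 2 := by
  have h2 := F.gauss_sq
  have h3 := F.card_singular
  rw [h] at h2 h3
  rcases mul_self_eq_mul_self_iff.1 (h2.trans (by push_cast; ring : _ = (m : ℤ) * m)) with e | e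
  · left
    rw [e] at h3
    exact_mod_cast h3
  · right
    rw [e] at h3
    push_cast at h3
    zify
    linarith

end Cfsg.Agent.LargeExtra.SixTwo
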